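import Groth.Agent.EtAcyc.K548.Radicial
import Groth.Agent.EtAcyc.K157.ClDef
import Groth.Agent.Sga3C.GeomRedPerf
import Groth.Agent.Sga1.UlaSL

/-!
# Clopen subsets and extensions of separably closed fields

* `cBij_of_isPullback`: pull-back of clopen subsets is bijective along the base changes of a faithfully flat
  quasi-compact morphism with connected geometric fibres.
* `isGood_field`: extensions of separably closed fields are good (`K548.Good.IsGood`).
* `flat_and_connected`, `cBij_field`: the strict localizations of `Y ⊗ k'` over those of `Y`.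
-/

set_option autoImplicit false
universe u

open CategoryTheory CategoryTheory.Limits AlgebraicGeometry IsLocalRing

namespace K2.FieldExt

open Groth.Agent.Etrest.StrictLoc Groth.Agent.Sga1.UlaSL Groth.Agent.Etbc.H192.ZeroAcyc
  Groth.Agent.Sga4A.EtStalk Groth.Agent.Etbc.H192 K548.Good K548.Radicial K157.ClDef

/-! ### Topology -/

theorem cBij_of_quotient {T' T : Scheme.{u}} (g : T' ⟶ T) (hg : Topology.IsQuotientMap g)
    (hf : ∀ t : T, _root_.IsPreconnected (g ⁻¹' {t})) : CBij g := by
  refine ⟨fun E _ h => ?_, fun E' hE' => ⟨g '' E', ?_, ?_⟩⟩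
  · obtain rfl | ⟨t, ht⟩ := E.eq_empty_or_nonempty
    · rfl
    · obtain ⟨s, rfl⟩ := hg.surjective t
      have : s ∈ (g ⁻¹' E : Set T') := ht
      rw [h] at this
      exact this.elim
  · have h1 : (g ⁻¹' (g '' E') : Set T') = E' := by
      refine Set.Subset.antisymm ?_ (Set.subset_preimage_image _ _)
      rintro x ⟨y, hy, hyx⟩
      have h2 := (hf (g x)).subset_isClopen hE' ⟨y, hyx, hy⟩
      exact h2 rfl
    exact ⟨hg.isClosed_preimage.1 (by rw [h1]; exact hE'.1),
      hg.isOpen_preimage.1 (by rw [h1]; exact hE'.2)⟩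
  · refine Set.Subset.antisymm ?_ (Set.subset_preimage_image _ _)
    rintro x ⟨y, hy, hyx⟩
    have h2 := (hf (g x)).subset_isClopen hE' ⟨y, hyx, hy⟩
    exact h2 rfl

theorem isPreconnected_fibre {X Y T T' : Scheme.{u}} {g : X ⟶ Y} (hc : SepGeomConnected g)
    {a' : T' ⟶ X} {q : T' ⟶ T} {a : T ⟶ Y} (h : IsPullback a' q g a) (t : T) :
    _root_.IsPreconnected (q ⁻¹' {t} : Set T') := by
  obtain ⟨Ω, _, _, ξ, hξ⟩ := exists_geomPoint _ t
  have hcon : ConnectedSpace ↥(pullback (ξ ≫ a) g) := hc Ω (ξ ≫ a)
  let m : pullback (ξ ≫ a) g ⟶ T' := h.lift (pullback.snd _ _) (pullback.fst _ _ ≫ ξ)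
    (by rw [Category.assoc, ← pullback.condition])
  have hm1 : m ≫ a' = pullback.snd (ξ ≫ a) g := h.lift_fst _ _ _
  have hm2 : m ≫ q = pullback.fst (ξ ≫ a) g ≫ ξ := h.lift_snd _ _ _
  have hM : IsPullback m (pullback.fst (ξ ≫ a) g) q ξ := by
    refine IsPullback.of_right (h₁₂ := a') (v₁₃ := g) (h₂₂ := a) ?_ hm2 h
    rw [hm1]
    exact (IsPullback.of_hasPullback (ξ ≫ a) g).flip
  have h1 : (q ⁻¹' {t} : Set T') = Set.range m := by
    ext x
    constructor
    · intro hx
      obtain ⟨z, hz1, -⟩ := Scheme.Pullback.exists_preimage_pullback (f := q) (g := ξ) x default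
        ((show q x = t from hx).trans hξ.symm)
      refine ⟨hM.isoPullback.inv z, ?_⟩
      have h2 : hM.isoPullback.inv ≫ m = pullback.fst q ξ := hM.isoPullback_inv_fst
      rw [← hz1, ← h2]
      rfl
    · rintro ⟨z, rfl⟩
      have h2 : q (m z) = ξ (pullback.fst (ξ ≫ a) g z) := by
        have h3 := congrArg (fun (k : pullback (ξ ≫ a) g ⟶ T) => k z) hm2
        exact h3
      change q (m z) = t
      rw [h2, ← hξ]
      congr 1
      exact Subsingleton.elim (α := PrimeSpectrum Ω) _ _
  rw [h1]
  exact isPreconnected_range m.continuous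

/-- Pull-back of clopen subsets is bijective along the base changes of a faithfully flat quasi-compact morphism
with connected geometric fibres. -/
theorem cBij_of_isPullback {X Y T T' : Scheme.{u}} {g : X ⟶ Y} [Flat g] [QuasiCompact g] [Surjective g]
    (hc : SepGeomConnected g) {a' : T' ⟶ X} {q : T' ⟶ T} {a : T ⟶ Y} (h : IsPullback a' q g a) :
    CBij q := by
  have h1 : Flat q := MorphismProperty.of_isPullback (P := @Flat) h inferInstance
  have h2 : QuasiCompact q := MorphismProperty.of_isPullback (P := @QuasiCompact) h inferInstance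
  have h3 : Surjective q := MorphismProperty.of_isPullback (P := @Surjective) h inferInstance
  exact cBij_of_quotient q (Flat.isQuotientMap_of_surjective q) (isPreconnected_fibre hc h)

/-! ### Fields -/

theorem flat_field {k K : Type u} [Field k] [Field K] (φ : k →+* K) : Flat (spm φ) := by
  let _ := φ.toAlgebra
  refine Flat.SpecMap_iff.2 ?_
  change Module.Flat k K
  infer_instance

theorem isGood_of_perfect {k K : Type u} [Field k] [Field K] [PerfectField k] (φ : k →+* K) :
    IsGood (spm φ) := by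
  have h1 : GeometricallyReduced (spm φ) :=
    Groth.Agent.Sga3C.GeomRedPerf.geometricallyReduced_spec (spm φ)
  have h2 := flat_field φ
  exact good_of_hasModel _ fun x =>
    Model.hasModel_of_isLocallyNoetherian _ (Model.fibRed_of_geometricallyReduced _) x

theorem radicial_spec (k K : Type u) [Field k] [Field K] [Algebra k K] [IsPurelyInseparable k K] :
    IsIntegralHom (spm (algebraMap k K)) ∧ Surjective (spm (algebraMap k K)) ∧
      UniversallyInjective (spm (algebraMap k K)) := by
  refine ⟨?_, ⟨fun _ => ⟨default, Subsingleton.elim (α := PrimeSpectrum k) _ _⟩⟩, ?_⟩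
  · rw [IsIntegralHom.SpecMap_iff]
    exact algebraMap_isIntegral_iff.2 inferInstance
  · refine ((tfae_universallyInjective (spm (algebraMap k K))).out 0 1).2 ?_
    intro L _ g₁ g₂ h
    obtain ⟨φ₁, rfl⟩ := Spec.map_surjective g₁
    obtain ⟨φ₂, rfl⟩ := Spec.map_surjective g₂
    have h1 : Spec.map (CommRingCat.ofHom (algebraMap k K) ≫ φ₁) =
        Spec.map (CommRingCat.ofHom (algebraMap k K) ≫ φ₂) := by
      rw [Spec.map_comp, Spec.map_comp]
      exact h
    have h3 : φ₁.hom = φ₂.hom :=
      IsPurelyInseparable.injective_comp_algebraMap k K L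
        (congrArg CommRingCat.Hom.hom (Spec.map_injective h1))
    rw [CommRingCat.hom_ext h3]

/-- Extensions of separably closed fields are good. -/
theorem isGood_field {k K : Type u} [Field k] [Field K] [IsSepClosed k] [IsSepClosed K] (φ : k →+* K) :
    IsGood (spm φ) := by
  let ι : k →+* AlgebraicClosure K := (algebraMap K (AlgebraicClosure K)).comp φ
  let _ : Algebra k (AlgebraicClosure K) := ι.toAlgebra
  let ψ : AlgebraicClosure k →ₐ[k] AlgebraicClosure K := IsAlgClosed.lift
  obtain ⟨a1, a2, a3⟩ := radicial_spec k (AlgebraicClosure k)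
  obtain ⟨b1, b2, b3⟩ := radicial_spec K (AlgebraicClosure K)
  have w : spm ψ.toRingHom ≫ spm (algebraMap k (AlgebraicClosure k)) =
      spm (algebraMap K (AlgebraicClosure K)) ≫ spm φ := by
    rw [← spm_comp, ← spm_comp]
    congr 1
    ext x
    exact ψ.commutes x
  exact isGood_of_square w (isGood_of_perfect _)

/-! ### Strict localizations -/

theorem flat_spm {W S : Scheme.{u}} {w : W ⟶ S} [Flat w] {A B : Type u} [CommRing A] [IsLocalRing A]
    [CommRing B] [IsLocalRing B] {τ : Spec (CommRingCat.of A) ⟶ S} {σ : Spec (CommRingCat.of B) ⟶ W}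
    (hτ : IsStrictLoc τ) (hσ : IsStrictLoc σ) (β : A →+* B) (hc : spm β ≫ τ = σ ≫ w) :
    Flat (spm β) := by
  have w1 : WeaklyEtale τ := weaklyEtale_of_isStrictLoc hτ
  have w2 : WeaklyEtale σ := weaklyEtale_of_isStrictLoc hσ
  let m : Spec (CommRingCat.of B) ⟶ pullback w τ := pullback.lift σ (spm β) hc.symm
  have hm1 : m ≫ pullback.fst w τ = σ := pullback.lift_fst _ _ _
  have hm2 : m ≫ pullback.snd w τ = spm β := pullback.lift_snd _ _ _
  have w3 : WeaklyEtale (m ≫ pullback.fst w τ) := by rw [hm1]; exact w2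
  have w4 : WeaklyEtale m := WeaklyEtale.of_comp m (pullback.fst w τ)
  rw [← hm2]
  infer_instance

variable {k K : Type u} [Field k] [Field K] [IsSepClosed k] [IsSepClosed K] (φ : k →+* K)
  {Y Y' : Scheme.{u}} {b : Y ⟶ Spec (CommRingCat.of k)} {y : Y' ⟶ Y} {b' : Y' ⟶ Spec (CommRingCat.of K)}
  (h : IsPullback b' y (spm φ) b) {D D' : Type u} [CommRing D] [IsLocalRing D] [CommRing D'] [IsLocalRing D']
  {σ : Spec (CommRingCat.of D) ⟶ Y} {σ' : Spec (CommRingCat.of D') ⟶ Y'} (hσ : IsStrictLoc σ)
  (hσ' : IsStrictLoc σ') (δ : D →+* D') (hδ : IsLocalHom δ) (hc : spm δ ≫ σ = σ' ≫ y)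

include h hσ hσ' hδ hc in
/-- The strict localizations of `Y ⊗ K` are faithfully flat with connected geometric fibres over those of `Y`. -/
theorem flat_and_connected : Flat (spm δ) ∧ Surjective (spm δ) ∧ SepGeomConnected (spm δ) := by
  have h0 := flat_field φ
  have h1 : Flat y := MorphismProperty.of_isPullback (P := @Flat) h inferInstance
  have h2 : Flat (spm δ) := flat_spm hσ hσ' δ hc
  exact ⟨h2, ULoc.surjective_spm δ,
    (isGood_field φ y b' b h D D' σ σ' hσ hσ' δ hδ hc).2⟩

include h hσ hσ' hδ hc in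
/-- Clopen subsets of `T` over a strict localization of `Y` do not change under extension of the separably closed
base field. -/
theorem cBij_field {T T' : Scheme.{u}} {a' : T' ⟶ Spec (CommRingCat.of D')} {q : T' ⟶ T}
    {a : T ⟶ Spec (CommRingCat.of D)} (hT : IsPullback a' q (spm δ) a) : CBij q := by
  obtain ⟨h1, h2, h3⟩ := flat_and_connected φ h hσ hσ' δ hδ hc
  exact cBij_of_isPullback h3 hT

end K2.FieldExt
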